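/-
Two-transitive groups with an abelian normal subgroup of the point stabiliser that is not semiregular:
trivial intersections and the linear space.
-/
import Mathlib

set_option autoImplicit false
set_option linter.unusedSectionVars false

namespace CfsgLib.ONan

open MulAction

variable (G X : Type*) [Group G] [MulAction G X]

/-- An elementary abelian normal subgroup for each point stabiliser, not semiregular on the other points. -/
structure Setting (p : ℕ) where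
  N : X → Subgroup G
  conj : ∀ (g : G) (x : X) (n : G), n ∈ N x → g * n * g⁻¹ ∈ N (g • x)
  fix : ∀ (x : X) (n : G), n ∈ N x → n • x = x
  comm : ∀ (x : X) (a : G), a ∈ N x → ∀ b ∈ N x, a * b = b * a
  exp : ∀ (x : X) (n : G), n ∈ N x → n ^ p = 1
  two : ∀ x y x' y' : X, x ≠ y → x' ≠ y' → ∃ g : G, g • x = x' ∧ g • y = y'
  nsr : ∀ x y : X, x ≠ y → ∃ n ∈ N x, n ≠ 1 ∧ n • y = y

variable {G X} {p : ℕ} (S : Setting G X p)

namespace Setting

/-- The kernel on the pair. -/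
def K (x y : X) : Subgroup G := S.N x ⊓ stabilizer G y

/-- The commutator. -/
def c (b n : G) : G := b * n * b⁻¹ * n⁻¹

theorem mem_K {x y : X} {a : G} : a ∈ S.K x y ↔ a ∈ S.N x ∧ a • y = y := Iff.rfl

theorem conj_inv {g : G} {x : X} {n : G} (hn : n ∈ S.N (g • x)) : g⁻¹ * n * g ∈ S.N x := by
  have := S.conj g⁻¹ _ n hn
  rwa [inv_inv, inv_smul_smul] at this

theorem map_N (g : G) (x : X) : (S.N x).map (MulAut.conj g).toMonoidHom = S.N (g • x) := by
  ext n
  constructor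
  · rintro ⟨m, hm, rfl⟩
    exact S.conj g x m hm
  · exact fun hn => ⟨_, S.conj_inv hn, by simp [mul_assoc]⟩

theorem map_K (g : G) (x y : X) : (S.K x y).map (MulAut.conj g).toMonoidHom = S.K (g • x) (g • y) := by
  ext n
  constructor
  · rintro ⟨m, hm, rfl⟩
    refine ⟨S.conj g x m hm.1, ?_⟩
    show (g * m * g⁻¹) • g • y = g • y
    rw [mul_smul, mul_smul, inv_smul_smul, show m • y = y from hm.2]
  · rintro ⟨h1, h2⟩
    refine ⟨g⁻¹ * n * g, ⟨S.conj_inv h1, ?_⟩, by simp [mul_assoc]⟩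
    show (g⁻¹ * n * g) • y = y
    rw [mul_smul, mul_smul, show n • g • y = g • y from h2, inv_smul_smul]

theorem card_map (g : G) (A : Subgroup G) : Nat.card (A.map (MulAut.conj g).toMonoidHom) = Nat.card A :=
  (Nat.card_congr (A.equivMapOfInjective _ (MulAut.conj g).injective).toEquiv).symm

theorem card_K {x y x' y' : X} (h : x ≠ y) (h' : x' ≠ y') : Nat.card (S.K x y) = Nat.card (S.K x' y') := by
  obtain ⟨g, rfl, rfl⟩ := S.two x y x' y' h h'
  rw [← S.map_K g x y, card_map]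

variable [Finite G] [FaithfulSMul G X]

/-- Distinct points have disjoint subgroups. -/
theorem ti {x y : X} (hxy : x ≠ y) {n : G} (hx : n ∈ S.N x) (hy : n ∈ S.N y) : n = 1 := by
  let D : X → X → Subgroup G := fun a b => S.N a ⊓ S.N b
  have hcard : ∀ {a b a' b'}, a ≠ b → a' ≠ b' → Nat.card (D a b) = Nat.card (D a' b') := fun {a b a' b'} h h' => by
    obtain ⟨g, rfl, rfl⟩ := S.two a b a' b' h h'
    show _ = Nat.card ↥(S.N (g • a) ⊓ S.N (g • b))
    rw [← S.map_N g a, ← S.map_N g b, ← Subgroup.map_inf _ _ _ (MulAut.conj g).injective, card_map]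
  have pair : ∀ {a b z w}, a ≠ b → z ≠ w → D a b ≤ S.N z → D a b ≤ S.N w → D a b = D z w := fun h h' h1 h2 =>
    Subgroup.eq_of_le_of_card_ge (le_inf h1 h2) (hcard h h').ge
  have move : ∀ (a b : X) (m : G), m ∈ S.N a → D a b ≤ S.N (m • b) := fun a b m hm d hd => by
    have := S.conj m b d hd.2
    rwa [S.comm a m hm d hd.1, mul_inv_cancel_right] at this
  refine eq_of_smul_eq_smul (α := X) fun w => ?_
  rw [one_smul]
  by_cases hw : D x y ≤ S.N w
  · exact S.fix w n (hw ⟨hx, hy⟩)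
  by_contra hu
  have hxw : x ≠ w := fun e => hw (e ▸ inf_le_left)
  have hyw : y ≠ w := fun e => hw (e ▸ inf_le_right)
  have e1 : D x w = D w (n • w) := pair hxw (Ne.symm hu) inf_le_right (move x w n hx)
  have e2 : D y w = D w (n • w) := pair hyw (Ne.symm hu) inf_le_right (move y w n hy)
  have e3 : D x w ≤ S.N y := e1.trans e2.symm ▸ inf_le_left
  exact hw (pair hxw hxy inf_le_left e3 ▸ inf_le_right)

/-- Whatever centralises a nontrivial element of `N y` fixes `y`. -/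
theorem fix_of_commute {y : X} {b n : G} (hb : b ∈ S.N y) (hb1 : b ≠ 1) (h : n * b = b * n) : n • y = y := by
  by_contra hne
  refine hb1 (S.ti hne ?_ hb)
  have := S.conj n y b hb
  rwa [h, mul_inv_cancel_right] at this

/-- The kernels of the two directions commute. -/
theorem comm_K {x y : X} (hxy : x ≠ y) {a b : G} (ha : a ∈ S.K x y) (hb : b ∈ S.K y x) : a * b = b * a := by
  have h1 : a * b * a⁻¹ * b⁻¹ ∈ S.N x := by
    have : b * a⁻¹ * b⁻¹ ∈ S.N x := by
      have := S.conj b x a⁻¹ ((S.N x).inv_mem ha.1)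
      rwa [show b • x = x from hb.2] at this
    rw [show a * b * a⁻¹ * b⁻¹ = a * (b * a⁻¹ * b⁻¹) by group]
    exact (S.N x).mul_mem ha.1 this
  have h2 : a * b * a⁻¹ * b⁻¹ ∈ S.N y := by
    have := S.conj a y b hb.1
    rw [show a • y = y from ha.2] at this
    exact (S.N y).mul_mem this ((S.N y).inv_mem hb.1)
  exact commutatorElement_eq_one_iff_mul_comm.1 (S.ti hxy h1 h2)

theorem c_mem {x : X} {b n : G} (hb : b • x = x) (hn : n ∈ S.N x) : c b n ∈ S.N x := by
  have := S.conj b x n hn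
  rw [hb] at this
  exact (S.N x).mul_mem this ((S.N x).inv_mem hn)

theorem K_ne_bot {x y : X} (hxy : x ≠ y) : ∃ a ∈ S.K x y, a ≠ 1 := by
  obtain ⟨n, hn, h1, hy⟩ := S.nsr x y hxy
  exact ⟨n, ⟨hn, hy⟩, h1⟩

variable [Fact p.Prime]

/-- An element of `N y` fixing `x` and a given point of the orbit of `y`. -/
theorem exists_common {x y : X} (hxy : x ≠ y) {n : G} (hn : n ∈ S.N x) :
    ∃ b ∈ S.K y x, b ≠ 1 ∧ b • n • y = n • y := by
  rcases eq_or_ne (n • y) y with hy' | hy'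
  · obtain ⟨b, hb, hb1⟩ := S.K_ne_bot hxy.symm
    exact ⟨b, hb, hb1, by rw [hy', S.fix y b hb.1]⟩
  have hPy' : ∀ a ∈ S.K x y, a • n • y = n • y := fun a ha => by
    rw [← mul_smul, S.comm x a ha.1 n hn, mul_smul, show a • y = y from ha.2]
  let act : MulAction (S.K x y) (S.K y (n • y)) :=
    { smul := fun a b => ⟨(a : G) * b * (a : G)⁻¹, by
        obtain ⟨hb1, hb2⟩ := b.2
        refine ⟨?_, ?_⟩
        · have := S.conj a y b hb1
          rwa [show (a : G) • y = y from a.2.2] at this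
        · show ((a : G) * b * (a : G)⁻¹) • n • y = n • y
          rw [mul_smul, mul_smul, inv_smul_eq_iff.2 (hPy' a a.2).symm, show (b : G) • n • y = n • y from hb2,
            hPy' a a.2]⟩
      one_smul := fun b => Subtype.ext (by show (1 : G) * b * (1 : G)⁻¹ = b; simp)
      mul_smul := fun a a' b => Subtype.ext (by
        show ((a * a' : S.K x y) : G) * b * ((a * a' : S.K x y) : G)⁻¹ =
          (a : G) * ((a' : G) * b * (a' : G)⁻¹) * (a : G)⁻¹
        rw [Subgroup.coe_mul]; group) }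
  have hP : IsPGroup p (S.K x y) := fun a => ⟨1, Subtype.ext (by rw [pow_one]; exact S.exp x a a.2.1)⟩
  have hdvd : p ∣ Nat.card (S.K y (n • y)) := by
    obtain ⟨b, hb, hb1⟩ := S.K_ne_bot hy'.symm
    have : orderOf (⟨b, hb⟩ : S.K y (n • y)) = p :=
      orderOf_eq_prime (Subtype.ext (S.exp y b hb.1)) fun e => hb1 (congrArg Subtype.val e)
    exact this.symm.dvd.trans (orderOf_dvd_natCard _)
  obtain ⟨b, hbfix, hb1⟩ := hP.exists_fixed_point_of_prime_dvd_card_of_fixed_point (S.K y (n • y)) hdvd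
    (a := 1) (fun a => Subtype.ext (by show (a : G) * 1 * (a : G)⁻¹ = 1; simp))
  have hb1' : (b : G) ≠ 1 := fun e => hb1 (Subtype.ext e.symm)
  obtain ⟨a, ha, ha1⟩ := S.K_ne_bot hxy
  have hab : a * (b : G) * a⁻¹ = b := congrArg Subtype.val (hbfix ⟨a, ha⟩)
  refine ⟨b, ⟨b.2.1, S.fix_of_commute ha.1 ha1 ?_⟩, hb1', b.2.2⟩
  rw [mul_inv_eq_iff_eq_mul] at hab
  exact hab.symm

/-- The kernel in `N y` fixes the whole orbit of `y` under `N x`. -/
theorem K_fix_orbit {x y : X} (hxy : x ≠ y) {k n : G} (hk : k ∈ S.K y x) (hn : n ∈ S.N x) :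
    k • n • y = n • y := by
  obtain ⟨b, hb, hb1, hbn⟩ := S.exists_common hxy hn
  have hfix : ∀ {j : G}, j ∈ S.K y x → (j • n • y = n • y ↔ c j n ∈ S.K x y) := fun {j} hj => by
    have hjy : j⁻¹ • y = y := inv_smul_eq_iff.2 (S.fix y j hj.1).symm
    constructor
    · intro h
      refine ⟨S.c_mem hj.2 hn, ?_⟩
      have hn' : j • n • y = n • y := h
      have := S.comm x _ (S.c_mem hj.2 hn) n hn
      show (c j n) • y = y
      refine MulAction.injective n ?_
      show n • c j n • y = n • y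
      rw [← mul_smul, ← this, c, inv_mul_cancel_right, mul_smul, mul_smul, hjy, hn']
    · rintro ⟨h1, h2⟩
      have : c j n • n • y = n • y := by rw [← mul_smul, S.comm x _ h1 n hn, mul_smul, show c j n • y = y from h2]
      calc j • n • y = (c j n * n) • y := by rw [c, inv_mul_cancel_right, mul_smul, mul_smul, hjy]
        _ = n • y := by rw [mul_smul, this]
  have hc := (hfix hb).1 hbn
  rw [hfix hk]
  refine ⟨S.c_mem hk.2 hn, S.fix_of_commute hb.1 hb1 ?_⟩
  have hbk : b * k = k * b := S.comm y b hb.1 k hk.1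
  have hkc : k * c b n = c b n * k := (S.comm_K hxy hc hk).symm
  have h1 : b * n * b⁻¹ = c b n * n := by rw [c, inv_mul_cancel_right]
  have h2 : b * c k n * b⁻¹ = c k n := by
    calc b * c k n * b⁻¹ = (b * k) * n * (b * k)⁻¹ * (b * n * b⁻¹)⁻¹ := by simp only [c]; group
      _ = k * (b * n * b⁻¹) * k⁻¹ * (b * n * b⁻¹)⁻¹ := by rw [hbk]; group
      _ = (k * c b n) * n * k⁻¹ * (n⁻¹ * (c b n)⁻¹) := by rw [h1]; group
      _ = c b n * c k n * (c b n)⁻¹ := by rw [hkc]; simp only [c]; group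
      _ = c k n := by rw [S.comm x _ hc.1 _ (S.c_mem hk.2 hn), mul_inv_cancel_right]
  rw [mul_inv_eq_iff_eq_mul] at h2
  exact h2.symm

/-- Commutators with an element moving `y` land in the kernel. -/
theorem c_mem_K {x y : X} (hxy : x ≠ y) {k n : G} (hk : k ∈ S.K y x) (hn : n ∈ S.N x) : c k n ∈ S.K x y := by
  refine ⟨S.c_mem hk.2 hn, ?_⟩
  have h := S.K_fix_orbit hxy hk hn
  have hky : k⁻¹ • y = y := inv_smul_eq_iff.2 (S.fix y k hk.1).symm
  show c k n • y = y
  have h' : (c k n * n) • y = n • y := by rw [c, inv_mul_cancel_right, mul_smul, mul_smul, hky, h]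
  rw [S.comm x _ (S.c_mem hk.2 hn) n hn, mul_smul] at h'
  exact MulAction.injective n h'

theorem c_inj {x y : X} {k k' n : G} (hk : k ∈ S.K y x) (hk' : k' ∈ S.K y x) (hny : n • y ≠ y)
    (h : c k n = c k' n) : k = k' := by
  by_contra hne
  have h' : k * n * k⁻¹ = k' * n * k'⁻¹ := mul_right_cancel h
  refine hny (S.fix_of_commute ((S.N y).mul_mem ((S.N y).inv_mem hk'.1) hk.1)
    (fun e => hne (inv_mul_eq_one.1 e).symm) ?_)
  calc n * (k'⁻¹ * k) = k'⁻¹ * (k' * n * k'⁻¹) * k := by group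
    _ = k'⁻¹ * k * n := by rw [← h']; group

/-- Every element of one kernel is a commutator of the other with a given moving element. -/
theorem exists_c {x y : X} (hxy : x ≠ y) {n : G} (hn : n ∈ S.N x) (hny : n • y ≠ y) {a : G}
    (ha : a ∈ S.K x y) : ∃ k ∈ S.K y x, c k n = a := by
  let f : S.K y x → S.K x y := fun k => ⟨c k n, S.c_mem_K hxy k.2 hn⟩
  have hf : Function.Bijective f := (Nat.bijective_iff_injective_and_card f).2
    ⟨fun k k' h => Subtype.ext (S.c_inj k.2 k'.2 hny (congrArg Subtype.val h)), S.card_K hxy.symm hxy⟩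
  obtain ⟨k, hk⟩ := hf.2 ⟨a, ha⟩
  exact ⟨k, k.2, congrArg Subtype.val hk⟩

/-- The product of the two kernels. -/
def A {x y : X} (hxy : x ≠ y) : Subgroup G where
  carrier := {g | ∃ a ∈ S.K x y, ∃ b ∈ S.K y x, g = a * b}
  one_mem' := ⟨1, one_mem _, 1, one_mem _, (one_mul 1).symm⟩
  mul_mem' := by
    rintro _ _ ⟨a, ha, b, hb, rfl⟩ ⟨a', ha', b', hb', rfl⟩
    refine ⟨a * a', mul_mem ha ha', b * b', mul_mem hb hb', ?_⟩
    rw [mul_assoc, ← mul_assoc b, ← S.comm_K hxy ha' hb]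
    group
  inv_mem' := by
    rintro _ ⟨a, ha, b, hb, rfl⟩
    refine ⟨a⁻¹, inv_mem ha, b⁻¹, inv_mem hb, ?_⟩
    rw [mul_inv_rev]
    exact (S.comm_K hxy (inv_mem ha) (inv_mem hb)).symm

theorem A_symm {x y : X} (hxy : x ≠ y) : S.A hxy = S.A hxy.symm := by
  ext g
  constructor <;> rintro ⟨a, ha, b, hb, rfl⟩
  · exact ⟨b, hb, a, ha, S.comm_K hxy ha hb⟩
  · exact ⟨b, hb, a, ha, (S.comm_K hxy hb ha).symm⟩

theorem A_conj {x y : X} (hxy : x ≠ y) (g : G) {x' y' : X} (hx : g • x = x') (hy : g • y = y') (h' : x' ≠ y')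
    {t : G} (ht : t ∈ S.A hxy) : g * t * g⁻¹ ∈ S.A h' := by
  obtain ⟨a, ha, b, hb, rfl⟩ := ht
  subst hx hy
  exact ⟨g * a * g⁻¹, S.map_K g x y ▸ Subgroup.mem_map_of_mem _ ha, g * b * g⁻¹,
    S.map_K g y x ▸ Subgroup.mem_map_of_mem _ hb, by group⟩

theorem A_fix {x y : X} (hxy : x ≠ y) {t : G} (ht : t ∈ S.A hxy) : t • x = x ∧ t • y = y := by
  obtain ⟨a, ha, b, hb, rfl⟩ := ht
  constructor
  · rw [mul_smul, show b • x = x from hb.2, S.fix x a ha.1]
  · rw [mul_smul, S.fix y b hb.1, show a • y = y from ha.2]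

theorem A_inf_N {x y : X} (hxy : x ≠ y) : S.A hxy ⊓ S.N x = S.K x y := by
  refine le_antisymm ?_ fun a ha => ⟨⟨a, ha, 1, one_mem _, (mul_one a).symm⟩, ha.1⟩
  rintro _ ⟨⟨a, ha, b, hb, rfl⟩, h⟩
  have hb' : b ∈ S.N x := ((S.N x).mul_mem_cancel_left ha.1).1 h
  rw [S.ti hxy hb' hb.1, mul_one]
  exact ha

/-- The line through two points. -/
def line {x y : X} (hxy : x ≠ y) : Set X :=
  {z | ∃ u ∈ Subgroup.normalizer (S.A hxy : Set G), u • x = z}

theorem left_mem {x y : X} (hxy : x ≠ y) : x ∈ S.line hxy := ⟨1, one_mem _, one_smul G x⟩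

theorem norm_of_conj {x y : X} (hxy : x ≠ y) {g : G} (h : ∀ t ∈ S.A hxy, g * t * g⁻¹ ∈ S.A hxy) :
    g ∈ Subgroup.normalizer (S.A hxy : Set G) := by
  have hmap : (S.A hxy).map (MulAut.conj g).toMonoidHom = S.A hxy :=
    Subgroup.eq_of_le_of_card_ge (by rintro _ ⟨t, ht, rfl⟩; exact h t ht) (card_map g _).ge
  refine Subgroup.mem_normalizer_iff.2 fun t => ⟨h t, fun ht => ?_⟩
  obtain ⟨s, hs, e⟩ : g * t * g⁻¹ ∈ (S.A hxy).map (MulAut.conj g).toMonoidHom := by rw [hmap]; exact ht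
  have : s = t := by simpa using e
  exact this ▸ hs

theorem right_mem {x y : X} (hxy : x ≠ y) : y ∈ S.line hxy := by
  obtain ⟨g, hgx, hgy⟩ := S.two x y y x hxy hxy.symm
  exact ⟨g, S.norm_of_conj hxy fun t ht => (S.A_symm hxy).symm ▸ S.A_conj hxy g hgx hgy hxy.symm ht, hgx⟩

theorem A_fix_line {x y : X} (hxy : x ≠ y) {t : G} (ht : t ∈ S.A hxy) {z : X} (hz : z ∈ S.line hxy) :
    t • z = z := by
  obtain ⟨u, hu, rfl⟩ := hz
  have h := (S.A_fix hxy ((Subgroup.mem_normalizer_iff''.1 hu t).1 ht)).1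
  rwa [mul_smul, mul_smul, inv_smul_eq_iff] at h

theorem eq_of_mem {x y : X} (hxy : x ≠ y) {z w : X} (hzw : z ≠ w) (hz : z ∈ S.line hxy) (hw : w ∈ S.line hxy) :
    S.line hzw = S.line hxy ∧ S.A hzw = S.A hxy := by
  have key : ∀ {z w : X}, z ≠ w → z ∈ S.line hxy → w ∈ S.line hxy → S.K z w ≤ S.A hxy := by
    intro z w hzw hz hw
    obtain ⟨u, hu, hux⟩ := hz
    have hle : (S.K x y).map (MulAut.conj u).toMonoidHom ≤ S.K z w := by
      rintro _ ⟨a, ha, rfl⟩
      refine ⟨hux ▸ S.conj u x a ha.1, S.A_fix_line hxy ?_ hw⟩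
      exact (Subgroup.mem_normalizer_iff.1 hu a).1 (S.A_inf_N hxy ▸ ha : a ∈ S.A hxy ⊓ S.N x).1
    have he := Subgroup.eq_of_le_of_card_ge hle (by rw [card_map, S.card_K hxy hzw])
    rw [← he]
    rintro _ ⟨a, ha, rfl⟩
    exact (Subgroup.mem_normalizer_iff.1 hu a).1 (S.A_inf_N hxy ▸ ha : a ∈ S.A hxy ⊓ S.N x).1
  have hle : S.A hzw ≤ S.A hxy := by
    rintro _ ⟨a, ha, b, hb, rfl⟩
    exact mul_mem (key hzw hz hw ha) (key hzw.symm hw hz hb)
  have hA : S.A hzw = S.A hxy := by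
    refine Subgroup.eq_of_le_of_card_ge hle ?_
    obtain ⟨g, hgx, hgy⟩ := S.two x y z w hxy hzw
    rw [← card_map g (S.A hxy)]
    refine Subgroup.card_le_of_le ?_
    rintro _ ⟨t, ht, rfl⟩
    exact S.A_conj hxy g hgx hgy hzw ht
  refine ⟨?_, hA⟩
  obtain ⟨u, hu, hux⟩ := hz
  ext v
  simp only [line, Set.mem_ofPred_eq, hA]
  constructor
  · rintro ⟨s, hs, rfl⟩
    exact ⟨s * u, mul_mem hs hu, by rw [mul_smul, hux]⟩
  · rintro ⟨s, hs, rfl⟩
    exact ⟨s * u⁻¹, mul_mem hs (inv_mem hu), by rw [mul_smul, ← hux, inv_smul_smul]⟩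

theorem line_smul {x y : X} (hxy : x ≠ y) (g : G) {x' y' : X} (hx : g • x = x') (hy : g • y = y')
    (h' : x' ≠ y') {z : X} (hz : z ∈ S.line hxy) : g • z ∈ S.line h' := by
  obtain ⟨u, hu, rfl⟩ := hz
  refine ⟨g * u * g⁻¹, S.norm_of_conj h' fun t ht => ?_, ?_⟩
  · have hg : g⁻¹ * t * g ∈ S.A hxy := by
      have := S.A_conj h' g⁻¹ (inv_smul_eq_iff.2 hx.symm) (inv_smul_eq_iff.2 hy.symm) hxy ht
      rwa [inv_inv] at this
    have := S.A_conj hxy g hx hy h' ((Subgroup.mem_normalizer_iff.1 hu _).1 hg)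
    rwa [show g * u * g⁻¹ * t * (g * u * g⁻¹)⁻¹ = g * (u * (g⁻¹ * t * g) * u⁻¹) * g⁻¹ by group]
  · rw [← hx, mul_smul, mul_smul, inv_smul_smul]

theorem smul_mem_line {x y : X} (hxy : x ≠ y) {n : G} (hn : n ∈ S.N x) : n • y ∈ S.line hxy := by
  have hu : n ∈ Subgroup.normalizer (S.A hxy : Set G) := by
    refine S.norm_of_conj hxy ?_
    rintro _ ⟨a, ha, b, hb, rfl⟩
    refine ⟨a * (c b n)⁻¹, mul_mem ha (inv_mem (S.c_mem_K hxy hb hn)), b, hb, ?_⟩
    rw [← mul_assoc n a b, S.comm x n hn a ha.1]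
    simp only [c]
    group
  obtain ⟨u, hu', hux⟩ := S.right_mem hxy
  exact ⟨n * u, mul_mem hu hu', by rw [mul_smul, hux]⟩

end Setting

end CfsgLib.ONan
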