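/-
The axes: maximal fixed-point sets, their elation groups, and the closure of the elements with an axis.
-/
import Cfsg.Agent.ONan.Basic

set_option autoImplicit false
set_option linter.unusedSectionVars false

namespace CfsgLib.ONan

open MulAction

variable {G X : Type*} [Group G] [MulAction G X] [Finite G] [Finite X] [FaithfulSMul G X] {p : ℕ} [Fact p.Prime]
  (S : Setting G X p)

namespace Setting

/-- A maximal fixed-point set. -/
def IsAxis (H : Set X) : Prop :=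
  (∃ x, ∃ n ∈ S.N x, n ≠ 1 ∧ fixedBy X n = H) ∧
    ∀ (z : X) (m : G), m ∈ S.N z → m ≠ 1 → H ⊆ fixedBy X m → fixedBy X m = H

/-- The elements with a given centre fixing a set pointwise. -/
def E (x : X) (H : Set X) : Subgroup G := S.N x ⊓ fixingSubgroup G H

theorem mem_E {x : X} {H : Set X} {e : G} : e ∈ S.E x H ↔ e ∈ S.N x ∧ ∀ y ∈ H, e • y = y := by
  rw [E, Subgroup.mem_inf, mem_fixingSubgroup_iff]

theorem exists_move {x y : X} (hxy : x ≠ y) : ∃ n ∈ S.N x, n • y ≠ y := by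
  by_contra hc
  push Not at hc
  obtain ⟨n, hn, hn1, -⟩ := S.nsr x y hxy
  refine hn1 (eq_of_smul_eq_smul (α := X) fun z => ?_)
  rw [one_smul]
  rcases eq_or_ne x z with rfl | hxz
  · exact S.fix x n hn
  obtain ⟨g, hgx, hgy⟩ := S.two x y x z hxy hxz
  have := hc _ (S.conj_inv (g := g) (x := x) (hgx.symm ▸ hn))
  rwa [mul_smul, mul_smul, hgy, inv_smul_eq_iff, hgy] at this

theorem fixed_line {x : X} {n : G} (hn : n ∈ S.N x) {a b : X} (hab : a ≠ b) (ha : n • a = a) (hb : n • b = b)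
    {z : X} (hz : z ∈ S.line hab) : n • z = z := by
  by_cases hx : x ∈ S.line hab
  · rcases eq_or_ne x a with rfl | hxa
    · exact S.A_fix_line hab ⟨n, ⟨hn, hb⟩, 1, one_mem _, (mul_one n).symm⟩ hz
    · obtain ⟨h1, h2⟩ := S.eq_of_mem hab hxa hx (S.left_mem hab)
      exact S.A_fix_line hab (h2 ▸ ⟨n, ⟨hn, ha⟩, 1, one_mem _, (mul_one n).symm⟩) hz
  · have hxz : x ≠ z := fun e => hx (e ▸ hz)
    by_contra hne
    have h1 : n • z ∈ S.line hab := S.line_smul hab n ha hb hab hz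
    have h2 : n • z ∈ S.line hxz := S.smul_mem_line hxz hn
    obtain ⟨e1, -⟩ := S.eq_of_mem hab hne h1 hz
    obtain ⟨e2, -⟩ := S.eq_of_mem hxz hne h2 (S.right_mem hxz)
    exact hx (e1 ▸ e2.symm ▸ S.left_mem hxz)

theorem fix_sub {x y : X} {k n : G} (hk : k ∈ S.K y x) (hn : n ∈ S.N x) :
    fixedBy X k ⊆ fixedBy X (c k n) := by
  intro w hw
  change k • w = w at hw
  show c k n • w = w
  have h2 : k • n⁻¹ • w = n⁻¹ • w := by
    rcases eq_or_ne x w with rfl | hxw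
    · rw [inv_smul_eq_iff.2 (S.fix x n hn).symm, show k • x = x from hk.2]
    · exact S.fixed_line hk.1 hxw hk.2 hw (S.smul_mem_line hxw (inv_mem hn))
  have h3 : k⁻¹ • n⁻¹ • w = n⁻¹ • w := inv_smul_eq_iff.2 h2.symm
  rw [c, mul_smul, mul_smul, mul_smul, h3, smul_inv_smul, hw]

/-- A kernel element and its commutator have the same fixed points. -/
theorem fix_c {x y : X} (hxy : x ≠ y) {k n : G} (hk : k ∈ S.K y x) (hn : n ∈ S.N x) (hny : n • y ≠ y) :
    fixedBy X (c k n) = fixedBy X k := by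
  classical
  obtain ⟨n', hn', hn'x⟩ := S.exists_move hxy.symm
  haveI := Fintype.ofFinite (S.K y x)
  haveI := Fintype.ofFinite (S.K x y)
  let f : S.K y x → S.K x y := fun k => ⟨c k n, S.c_mem_K hxy k.2 hn⟩
  let g : S.K x y → S.K y x := fun a => ⟨c a n', S.c_mem_K hxy.symm a.2 hn'⟩
  have hf : Function.Bijective f := (Nat.bijective_iff_injective_and_card f).2
    ⟨fun k k' h => Subtype.ext (S.c_inj k.2 k'.2 hny (congrArg Subtype.val h)), S.card_K hxy.symm hxy⟩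
  have hg : Function.Bijective g := (Nat.bijective_iff_injective_and_card g).2
    ⟨fun k k' h => Subtype.ext (S.c_inj k.2 k'.2 hn'x (congrArg Subtype.val h)), S.card_K hxy hxy.symm⟩
  let φ : S.K y x → ℕ := fun k => (fixedBy X (k : G)).ncard
  let ψ : S.K x y → ℕ := fun a => (fixedBy X (a : G)).ncard
  have h1 : ∀ k ∈ (Finset.univ : Finset (S.K y x)), φ k ≤ ψ (f k) := fun k _ =>
    Set.ncard_le_ncard (S.fix_sub k.2 hn) (Set.toFinite _)
  have h2 : ∀ a ∈ (Finset.univ : Finset (S.K x y)), ψ a ≤ φ (g a) := fun a _ =>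
    Set.ncard_le_ncard (S.fix_sub a.2 hn') (Set.toFinite _)
  have e : ∑ k, φ k = ∑ k, ψ (f k) := by
    refine le_antisymm (Finset.sum_le_sum h1) ?_
    rw [hf.sum_comp ψ, ← hg.sum_comp φ]
    exact Finset.sum_le_sum h2
  exact (Set.eq_of_subset_of_ncard_le (S.fix_sub hk hn)
    ((Finset.sum_eq_sum_iff_of_le h1).1 e ⟨k, hk⟩ (Finset.mem_univ _)).ge (Set.toFinite _)).symm

/-- Every fixed point of an element is the centre of one with the same fixed points. -/
theorem exists_centre {z : X} {n : G} (hn : n ∈ S.N z) (hn1 : n ≠ 1) {x : X} (hx : n • x = x) :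
    ∃ m ∈ S.N x, m ≠ 1 ∧ fixedBy X m = fixedBy X n := by
  rcases eq_or_ne x z with rfl | hxz
  · exact ⟨n, hn, hn1, rfl⟩
  obtain ⟨n', hn', hne⟩ := S.exists_move hxz
  refine ⟨c n n', S.c_mem hx hn', fun e => hn1 ?_, S.fix_c hxz ⟨hn, hx⟩ hn' hne⟩
  refine S.c_inj (k := n) (k' := 1) ⟨hn, hx⟩ (one_mem _) hne ?_
  rw [e]; simp [c]

theorem exists_axis {z : X} {n : G} (hn : n ∈ S.N z) (hn1 : n ≠ 1) :
    ∃ H, S.IsAxis H ∧ fixedBy X n ⊆ H := by
  obtain ⟨⟨w, m⟩, ⟨hm, hm1, hsub⟩, hmax⟩ := Set.Finite.exists_maximalFor (fun P : X × G => fixedBy X P.2)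
    {P | P.2 ∈ S.N P.1 ∧ P.2 ≠ 1 ∧ fixedBy X n ⊆ fixedBy X P.2} (Set.toFinite _) ⟨(z, n), hn, hn1, subset_rfl⟩
  exact ⟨_, ⟨⟨w, m, hm, hm1, rfl⟩, fun z' m' h1 h2 h3 =>
    Set.Subset.antisymm (hmax (j := (z', m')) ⟨h1, h2, hsub.trans h3⟩ h3) h3⟩, hsub⟩

theorem conj_fixedBy (g n : G) : fixedBy X (g * n * g⁻¹) = (g • ·) '' fixedBy X n := by
  ext w
  rw [mem_fixedBy, mul_smul, mul_smul]
  constructor
  · intro h
    refine ⟨g⁻¹ • w, ?_, smul_inv_smul g w⟩
    rw [mem_fixedBy]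
    exact smul_left_cancel g (h.trans (smul_inv_smul g w).symm)
  · rintro ⟨v, hv, rfl⟩
    rw [mem_fixedBy] at hv
    show g • n • g⁻¹ • g • v = g • v
    rw [inv_smul_smul, hv]

namespace IsAxis

variable {S} {H : Set X}

theorem smul (hH : S.IsAxis H) (g : G) : S.IsAxis ((g • ·) '' H) := by
  obtain ⟨⟨x, n, hn, hn1, he⟩, hmax⟩ := hH
  refine ⟨⟨g • x, g * n * g⁻¹, S.conj g x n hn, fun e => hn1 ?_, ?_⟩, fun z m hm hm1 hsub => ?_⟩
  · simpa using e
  · rw [conj_fixedBy, he]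
  · have hm' : g⁻¹ * m * g ∈ S.N (g⁻¹ • z) := by
      have := S.conj g⁻¹ z m hm
      rwa [inv_inv] at this
    have hf : fixedBy X (g⁻¹ * m * g) = (g⁻¹ • ·) '' fixedBy X m := by
      have := conj_fixedBy (X := X) g⁻¹ m
      rwa [inv_inv] at this
    have := hmax _ _ hm' (fun e => hm1 (by simpa [mul_assoc] using congrArg (fun t => g * t * g⁻¹) e)) (fun w hw => by
      rw [hf]; exact ⟨g • w, hsub ⟨w, hw, rfl⟩, inv_smul_smul g w⟩)
    rw [hf] at this
    rw [← this, Set.image_image]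
    simp

theorem centre (hH : S.IsAxis H) {x : X} (hx : x ∈ H) : ∃ m ∈ S.N x, m ≠ 1 ∧ fixedBy X m = H := by
  obtain ⟨⟨z, n, hn, hn1, he⟩, -⟩ := hH
  rw [← he] at hx ⊢
  exact S.exists_centre hn hn1 hx

theorem fixed_eq (hH : S.IsAxis H) {x : X} {e : G} (he : e ∈ S.E x H) (he1 : e ≠ 1) : fixedBy X e = H :=
  hH.2 x e (S.mem_E.1 he).1 he1 fun w hw => (S.mem_E.1 he).2 w hw

theorem eq_of_subset (hH : S.IsAxis H) {F : Set X} (hF : S.IsAxis F) (h : H ⊆ F) : H = F := by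
  obtain ⟨⟨z, m, hm, hm1, he⟩, -⟩ := hF
  rw [← he] at h ⊢
  exact (hH.2 z m hm hm1 h).symm

theorem line_subset (hH : S.IsAxis H) {a b : X} (hab : a ≠ b) (ha : a ∈ H) (hb : b ∈ H) : S.line hab ⊆ H := by
  obtain ⟨⟨z, n, hn, -, he⟩, -⟩ := hH
  intro w hw
  rw [← he] at ha hb ⊢
  exact S.fixed_line hn hab ha hb hw

theorem exists_notMem (hH : S.IsAxis H) : ∃ w, w ∉ H := by
  obtain ⟨⟨z, n, hn, hn1, he⟩, -⟩ := hH
  by_contra h
  push Not at h
  exact hn1 (eq_of_smul_eq_smul (α := X) fun w => by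
    rw [one_smul]; exact (he.symm ▸ h w : w ∈ fixedBy X n))

theorem exists_ne (hH : S.IsAxis H) (x : X) : ∃ y ∈ H, y ≠ x := by
  obtain ⟨⟨z, n, hn, hn1, he⟩, hmax⟩ := hH
  have hz : z ∈ H := he ▸ S.fix z n hn
  rcases eq_or_ne z x with rfl | hne
  swap
  · exact ⟨z, hz, hne⟩
  by_contra hc
  push Not at hc
  obtain ⟨w, hw⟩ := exists_notMem ⟨⟨z, n, hn, hn1, he⟩, hmax⟩
  have hzw : z ≠ w := fun e => hw (e ▸ hz)
  obtain ⟨m, hm, hm1, hmw⟩ := S.nsr z w hzw
  exact hw (hmax z m hm hm1 (fun v hv => (hc v hv).symm ▸ S.fix z m hm) ▸ hmw)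

theorem E_inf (hH : S.IsAxis H) {x w : X} (hw : w ∉ H) {e : G} (he : e ∈ S.E x H) (hew : e • w = w) : e = 1 := by
  by_contra he1
  exact hw (hH.fixed_eq he he1 ▸ hew)

end IsAxis

/-- The number of elements with centre `x` and axis `H`, and the decomposition of `N x`. -/
theorem decomp {H : Set X} (hH : S.IsAxis H) {x w : X} (hx : x ∈ H) (hw : w ∉ H) :
    Nat.card (S.E x H) * Nat.card (S.K x w) = Nat.card (S.N x) ∧
      ∀ n ∈ S.N x, ∃ e ∈ S.E x H, ∃ a ∈ S.K x w, n = e * a := by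
  have hxw : x ≠ w := fun e => hw (e ▸ hx)
  obtain ⟨y, hy, hyx⟩ := hH.exists_ne x
  have hxy : x ≠ y := hyx.symm
  obtain ⟨k, hk, hk1, hkH⟩ := hH.centre hy
  have hkx : k ∈ S.K y x := ⟨hk, (hkH.symm ▸ hx : x ∈ fixedBy X k)⟩
  have hc : ∀ n ∈ S.N x, c k n ∈ S.E x H := fun n hn => S.mem_E.2
    ⟨S.c_mem hkx.2 hn, fun v hv => S.fix_sub hkx hn (hkH.symm ▸ hv : v ∈ fixedBy X k)⟩
  let φ : S.N x →* S.E x H := MonoidHom.mk' (fun n => ⟨c k n, hc n n.2⟩) fun n n' => Subtype.ext (by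
    show c k ((n * n' : S.N x) : G) = c k n * c k n'
    have h : c k (n : G) * c k n' = k * n * k⁻¹ * (c k n' * (n : G)⁻¹) := by
      rw [← S.comm x _ (inv_mem n.2) _ (S.c_mem hkx.2 n'.2)]; simp only [c]; group
    rw [h, Subgroup.coe_mul]
    simp only [c]
    group)
  let ψ : φ.ker → S.K x y := fun n => ⟨((n : S.N x) : G), (n : S.N x).2, S.fix_of_commute hk hk1 (by
    have h := congrArg Subtype.val (MonoidHom.mem_ker.1 n.2)
    change c k ((n : S.N x) : G) = 1 at h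
    exact (commutatorElement_eq_one_iff_mul_comm.1 h).symm)⟩
  have hle : Nat.card (S.N x) ≤ Nat.card (S.E x H) * Nat.card (S.K x w) := by
    rw [← φ.ker.index_mul_card, Subgroup.index_ker, S.card_K hxw hxy]
    exact Nat.mul_le_mul (Nat.card_le_card_of_injective _ Subtype.val_injective)
      (Nat.card_le_card_of_injective ψ fun a b h => Subtype.ext (Subtype.ext (congrArg (·.1) h)))
  let f : S.E x H × S.K x w → S.N x := fun P => ⟨P.1 * P.2, mul_mem P.1.2.1 P.2.2.1⟩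
  have hf : Function.Injective f := by
    rintro ⟨e, a⟩ ⟨e', a'⟩ h
    have h' : (e : G) * a = e' * a' := congrArg Subtype.val h
    have h1 : (e' : G)⁻¹ * e = a' * (a : G)⁻¹ := by
      calc (e' : G)⁻¹ * e = (e' : G)⁻¹ * ((e : G) * a) * (a : G)⁻¹ := by group
        _ = a' * (a : G)⁻¹ := by rw [h']; group
    have h2 : (e' : G)⁻¹ * e = 1 := hH.E_inf hw (mul_mem (inv_mem e'.2) e.2)
      (by rw [h1]; exact (mul_mem a'.2 (inv_mem a.2) : _ ∈ S.K x w).2)
    rw [h2] at h1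
    exact Prod.ext (Subtype.ext (inv_mul_eq_one.1 h2).symm) (Subtype.ext (mul_inv_eq_one.1 h1.symm).symm)
  have hge := Nat.card_le_card_of_injective f hf
  rw [Nat.card_prod] at hge
  refine ⟨le_antisymm hge hle, fun n hn => ?_⟩
  have hbij : Function.Bijective f := (Nat.bijective_iff_injective_and_card f).2
    ⟨hf, by rw [Nat.card_prod]; exact le_antisymm hge hle⟩
  obtain ⟨⟨e, a⟩, h⟩ := hbij.2 ⟨n, hn⟩
  exact ⟨e, e.2, a, a.2, (congrArg Subtype.val h).symm⟩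

/-- The elements with an axis are closed under multiplication. -/
theorem axis_mul {x : X} {e f : G} (he : e ∈ S.N x) (hf : f ∈ S.N x) (heA : S.IsAxis (fixedBy X e))
    (hfA : S.IsAxis (fixedBy X f)) : f * e = 1 ∨ S.IsAxis (fixedBy X (f * e)) := by
  rcases eq_or_ne (f * e) 1 with h | h1
  · exact Or.inl h
  refine Or.inr ?_
  by_cases hEF : fixedBy X f ⊆ fixedBy X e
  · have hEF' := hfA.eq_of_subset heA hEF
    have : fixedBy X (f * e) = fixedBy X e := heA.2 x _ (mul_mem hf he) h1 fun w hw => by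
      have hw' : w ∈ fixedBy X f := hEF'.symm ▸ hw
      show (f * e) • w = w
      rw [mul_smul, show e • w = w from hw, show f • w = w from hw']
    rwa [this]
  · obtain ⟨u, huF, huE⟩ := Set.not_subset.1 hEF
    have hxu : x ≠ u := fun h => huE (h ▸ S.fix x e he)
    obtain ⟨b, hb, hbf⟩ := S.exists_c hxu he huE ⟨hf, huF⟩
    have : f * e = b * e * b⁻¹ := by rw [← hbf, c, inv_mul_cancel_right]
    rw [this, conj_fixedBy]
    exact heA.smul b

end Setting

end CfsgLib.ONan
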