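/-
Planes: every line meets every axis.
-/
import Cfsg.Agent.ONan.Axes

set_option autoImplicit false
set_option linter.unusedSectionVars false

namespace CfsgLib.ONan

open MulAction

/-- Subgroups of one order in a group, any two meeting in the same subgroup. -/
theorem cover_of_pencil {G : Type*} [Group G] [Finite G] {N U : Subgroup G} {e : ℕ} (he : 2 ≤ e)
    (T : Finset (Subgroup G)) (hN : Nat.card N = e * (e * Nat.card U)) (hU : U ≤ N)
    (hT : ∀ K ∈ T, U ≤ K ∧ K ≤ N ∧ Nat.card K = e * Nat.card U)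
    (hinf : ∀ K ∈ T, ∀ K' ∈ T, K ≠ K' → K ⊓ K' ≤ U) :
    T.card ≤ e + 1 ∧ (e + 1 ≤ T.card → ∀ n ∈ N, n ∉ U → ∃ K ∈ T, n ∈ K) := by
  classical
  set u := Nat.card U
  have hu : 0 < u := Nat.card_pos
  let D : Finset G := (Set.toFinite ((N : Set G) \ U)).toFinset
  let d : Subgroup G → Finset G := fun K => (Set.toFinite ((K : Set G) \ U)).toFinset
  have hd : ∀ {K : Subgroup G}, U ≤ K → (Set.toFinite ((K : Set G) \ U)).toFinset.card = Nat.card K - u := by
    intro K hK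
    rw [← Set.ncard_eq_toFinset_card, Set.ncard_diff hK, ← Nat.card_coe_set_eq, ← Nat.card_coe_set_eq]
    rfl
  have hdisj : (T : Set (Subgroup G)).PairwiseDisjoint d := by
    intro K hK K' hK' hne
    refine Finset.disjoint_left.2 fun n h h' => ?_
    simp only [d, Set.Finite.mem_toFinset, Set.mem_diff] at h h'
    exact h.2 (hinf K hK K' hK' hne ⟨h.1, h'.1⟩)
  have hsub : T.biUnion d ⊆ D := by
    intro n hn
    simp only [Finset.mem_biUnion, d, Set.Finite.mem_toFinset, Set.mem_diff, D] at hn ⊢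
    obtain ⟨K, hK, h1, h2⟩ := hn
    exact ⟨(hT K hK).2.1 h1, h2⟩
  have hcard : (T.biUnion d).card = T.card * (e * u - u) := by
    rw [Finset.card_biUnion hdisj, ← smul_eq_mul, ← Finset.sum_const]
    exact Finset.sum_congr rfl fun K hK => (hd (hT K hK).1).trans (by rw [(hT K hK).2.2])
  have hD : D.card = (e + 1) * (e * u - u) := by
    refine (hd hU).trans ?_
    rw [hN]
    obtain ⟨f, rfl⟩ : ∃ f, e = f + 2 := ⟨e - 2, by omega⟩
    rw [show (f + 2) * u - u = (f + 1) * u by rw [add_mul, add_mul, two_mul, one_mul]; omega]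
    have : (f + 2) * ((f + 2) * u) = (f + 2 + 1) * ((f + 1) * u) + u := by ring
    rw [this, Nat.add_sub_cancel]
  have hpos : 0 < e * u - u := by
    have : 2 * u ≤ e * u := Nat.mul_le_mul_right u he
    omega
  have hle := Finset.card_le_card hsub
  rw [hcard, hD] at hle
  have hT' : T.card ≤ e + 1 := Nat.le_of_mul_le_mul_right hle hpos
  refine ⟨hT', fun h n hn hnU => ?_⟩
  have heq : T.biUnion d = D := Finset.eq_of_subset_of_card_le hsub (by
    rw [hcard, hD]; exact Nat.mul_le_mul_right _ h)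
  have : n ∈ D := by simp only [D, Set.Finite.mem_toFinset]; exact ⟨hn, hnU⟩
  rw [← heq] at this
  simp only [Finset.mem_biUnion, d, Set.Finite.mem_toFinset, Set.mem_diff] at this
  obtain ⟨K, hK, h1, -⟩ := this
  exact ⟨K, hK, h1⟩

variable {G X : Type*} [Group G] [MulAction G X] [Finite G] [Finite X] [FaithfulSMul G X] {p : ℕ} [Fact p.Prime]
  (S : Setting G X p)

namespace Setting

/-- Every nontrivial element has an axis. -/
def Full : Prop := ∀ (x : X) (n : G), n ∈ S.N x → n ≠ 1 → S.IsAxis (fixedBy X n)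

/-- The elements with an axis. -/
def core : Setting G X p where
  N x :=
    { carrier := {n | n ∈ S.N x ∧ (n = 1 ∨ S.IsAxis (fixedBy X n))}
      one_mem' := ⟨one_mem _, Or.inl rfl⟩
      mul_mem' := by
        rintro f e ⟨hf, hf'⟩ ⟨he, he'⟩
        refine ⟨mul_mem hf he, ?_⟩
        rcases hf' with rfl | hf'
        · rwa [one_mul]
        rcases he' with rfl | he'
        · exact Or.inr (by rwa [mul_one])
        exact S.axis_mul he hf he' hf'
      inv_mem' := by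
        rintro n ⟨hn, hn'⟩
        refine ⟨inv_mem hn, hn'.imp (fun h => by rw [h, inv_one]) fun h => ?_⟩
        rwa [fixedBy_inv] }
  conj g x n hn := ⟨S.conj g x n hn.1, hn.2.imp (fun h => by simp [h]) fun h => by
    rw [conj_fixedBy]; exact h.smul g⟩
  fix x n hn := S.fix x n hn.1
  comm x a ha b hb := S.comm x a ha.1 b hb.1
  exp x n hn := S.exp x n hn.1
  two := S.two
  nsr x y hxy := by
    obtain ⟨n, hn, hn1, hny⟩ := S.nsr x y hxy
    obtain ⟨H, hH, hsub⟩ := S.exists_axis hn hn1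
    obtain ⟨m, hm, hm1, hmH⟩ := hH.centre (hsub (S.fix x n hn))
    refine ⟨m, ⟨hm, Or.inr (hmH.symm ▸ hH)⟩, hm1, ?_⟩
    exact (hmH.symm ▸ hsub hny : y ∈ fixedBy X m)

theorem core_full : S.core.Full := fun x n hn hn1 => by
  obtain ⟨-, hmax⟩ := hn.2.resolve_left hn1
  exact ⟨⟨x, n, hn, hn1, rfl⟩, fun z m hm hm1 h => hmax z m hm.1 hm1 h⟩

theorem card_N (x x' : X) : Nat.card (S.N x) = Nat.card (S.N x') := by
  rcases eq_or_ne x x' with rfl | h
  · rfl
  obtain ⟨g, hg, -⟩ := S.two x x' x' x h h.symm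
  rw [← hg, ← S.map_N g x, card_map]

theorem card_E {H : Set X} (hH : S.IsAxis H) {x : X} (hx : x ∈ H) {H' : Set X} (hH' : S.IsAxis H') {x' : X}
    (hx' : x' ∈ H') : Nat.card (S.E x H) = Nat.card (S.E x' H') := by
  obtain ⟨w, hw⟩ := hH.exists_notMem
  obtain ⟨w', hw'⟩ := hH'.exists_notMem
  have h := (S.decomp hH hx hw).1
  rw [S.card_N x x', ← (S.decomp hH' hx' hw').1,
    S.card_K (fun e => hw (e ▸ hx) : x ≠ w) (fun e => hw' (e ▸ hx') : x' ≠ w')] at h
  exact Nat.eq_of_mul_eq_mul_right Nat.card_pos h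

theorem two_le_card_E {H : Set X} (hH : S.IsAxis H) {x : X} (hx : x ∈ H) : 2 ≤ Nat.card (S.E x H) := by
  obtain ⟨m, hm, hm1, he⟩ := hH.centre hx
  haveI : Nontrivial (S.E x H) := ⟨⟨⟨m, S.mem_E.2 ⟨hm, fun v hv => (he.symm ▸ hv : v ∈ fixedBy X m)⟩⟩, 1,
    fun e => hm1 (congrArg Subtype.val e)⟩⟩
  exact Finite.one_lt_card

/-- The intersection of the axes through two points. -/
def span (x y : X) : Set X := {w | ∀ H, S.IsAxis H → x ∈ H → y ∈ H → w ∈ H}

theorem line_subset_span {x y : X} (hxy : x ≠ y) : S.line hxy ⊆ S.span x y :=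
  fun _ hz _ hH hx hy => hH.line_subset hxy hx hy hz

variable {S}

theorem mem_span_iff (hS : S.Full) {x y : X} {w : X} :
    w ∈ S.span x y ↔ ∀ a ∈ S.K x y, a • w = w := by
  constructor
  · intro hw a ha
    rcases eq_or_ne a 1 with rfl | ha1
    · exact one_smul G w
    exact hw (fixedBy X a) (hS x a ha.1 ha1) (S.fix x a ha.1) ha.2
  · intro hw H hH hx hy
    obtain ⟨m, hm, hm1, he⟩ := hH.centre hx
    subst he
    exact hw m ⟨hm, hy⟩

theorem span_eq {x y z w : X} (hxy : x ≠ y) (hzw : z ≠ w) (hz : z ∈ S.span x y)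
    (hw : w ∈ S.span x y) : S.span z w = S.span x y := by
  refine Set.eq_of_subset_of_ncard_le (fun v hv H hH hx hy => hv H hH (hz H hH hx hy) (hw H hH hx hy)) ?_
    (Set.toFinite _)
  obtain ⟨g, hgx, hgy⟩ := S.two x y z w hxy hzw
  rw [← Set.ncard_image_of_injective _ (MulAction.injective g)]
  refine Set.ncard_le_ncard ?_ (Set.toFinite _)
  rintro _ ⟨v, hv, rfl⟩ H hH hzH hwH
  have hmem : ∀ {t}, g • t ∈ H → t ∈ (g⁻¹ • ·) '' H := fun {t} h => ⟨_, h, inv_smul_smul g t⟩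
  obtain ⟨t, ht, e⟩ := hv _ (hH.smul g⁻¹) (hmem (hgx.symm ▸ hzH)) (hmem (hgy.symm ▸ hwH))
  rw [← e]
  show g • g⁻¹ • t ∈ H
  rw [smul_inv_smul]
  exact ht

/-- The plane on three points. -/
def plane (S : Setting G X p) (x y₁ y₂ : X) : Set X :=
  {w | ∀ H, S.IsAxis H → x ∈ H → y₁ ∈ H → y₂ ∈ H → w ∈ H}

variable {x y₁ y₂ : X}

theorem mem_plane : x ∈ S.plane x y₁ y₂ ∧ y₁ ∈ S.plane x y₁ y₂ ∧ y₂ ∈ S.plane x y₁ y₂ :=
  ⟨fun _ _ h _ _ => h, fun _ _ _ h _ => h, fun _ _ _ _ h => h⟩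

theorem K_inf_le (hS : S.Full) {a : G} (h1 : a ∈ S.K x y₁) (h2 : a ∈ S.K x y₂) :
    a ∈ S.E x (S.plane x y₁ y₂) := by
  refine S.mem_E.2 ⟨h1.1, fun v hv => ?_⟩
  rcases eq_or_ne a 1 with rfl | ha1
  · exact one_smul G v
  exact hv (fixedBy X a) (hS x a h1.1 ha1) (S.fix x a h1.1) h1.2 h2.2

theorem E_inter_bot (hS : S.Full) {z : X} {Y : Set X} {a b : G} (ha : a ∈ S.N z) (haY : a ∉ S.E z Y)
    (hb : b ∈ S.E z (fixedBy X a)) (hbY : b ∈ S.E z Y) : b = 1 := by
  by_contra hb1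
  have ha1 : a ≠ 1 := fun e => haY (e ▸ one_mem _)
  have := (hS z a ha ha1).fixed_eq hb hb1
  refine haY (S.mem_E.2 ⟨ha, fun v hv => ?_⟩)
  exact (this ▸ (S.mem_E.1 hbY).2 v hv : v ∈ fixedBy X a)

theorem card_mul_le (hS : S.Full) {z : X} {Y : Set X} {a : G} (ha : a ∈ S.N z) (haY : a ∉ S.E z Y)
    (R : Subgroup G) (hY : S.E z Y ≤ R) (hH : S.E z (fixedBy X a) ≤ R) :
    Nat.card (S.E z (fixedBy X a)) * Nat.card (S.E z Y) ≤ Nat.card R := by
  rw [← Nat.card_prod]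
  refine Nat.card_le_card_of_injective (fun P => (⟨P.1 * P.2, mul_mem (hH P.1.2) (hY P.2.2)⟩ : R)) ?_
  rintro ⟨e, u⟩ ⟨e', u'⟩ h
  have h' : (e : G) * u = e' * u' := congrArg Subtype.val h
  have h1 : (e' : G)⁻¹ * e = u' * (u : G)⁻¹ := by
    calc (e' : G)⁻¹ * e = (e' : G)⁻¹ * ((e : G) * u) * (u : G)⁻¹ := by group
      _ = u' * (u : G)⁻¹ := by rw [h']; group
  have h2 : (e' : G)⁻¹ * e = 1 :=
    E_inter_bot hS ha haY (mul_mem (inv_mem e'.2) e.2) (h1 ▸ mul_mem u'.2 (inv_mem u.2))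
  rw [h2] at h1
  exact Prod.ext (Subtype.ext (inv_mul_eq_one.1 h2).symm) (Subtype.ext (mul_inv_eq_one.1 h1.symm).symm)

theorem card_E_plane_le (hS : S.Full) {z z' : X} (hz : z ∈ S.plane x y₁ y₂) (hz' : z' ∈ S.plane x y₁ y₂) :
    Nat.card (S.E z (S.plane x y₁ y₂)) ≤ Nat.card (S.E z' (S.plane x y₁ y₂)) := by
  rcases eq_or_ne z z' with rfl | hne
  · exact le_rfl
  obtain ⟨n, hn, hnz⟩ := S.exists_move hne.symm
  have hK : ∀ {a : G}, a ∈ S.E z (S.plane x y₁ y₂) → a ∈ S.K z z' := fun {a} ha =>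
    ⟨(S.mem_E.1 ha).1, (S.mem_E.1 ha).2 z' hz'⟩
  refine Nat.card_le_card_of_injective (fun a => (⟨c (a : G) n, S.mem_E.2 ⟨S.c_mem (hK a.2).2 hn, fun v hv => ?_⟩⟩ :
    S.E z' (S.plane x y₁ y₂))) fun a b h => Subtype.ext (S.c_inj (hK a.2) (hK b.2) hnz (congrArg Subtype.val h))
  exact S.fix_sub (hK a.2) hn ((S.mem_E.1 a.2).2 v hv : v ∈ fixedBy X (a : G))

/-- The orders in a plane. -/
theorem plane_card (hS : S.Full) (hx1 : x ≠ y₁) (hy2 : y₂ ∉ S.span x y₁) :
    ∃ e, 2 ≤ e ∧ (∀ H, S.IsAxis H → ∀ z ∈ H, Nat.card (S.E z H) = e) ∧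
      ∀ z ∈ S.plane x y₁ y₂, ∀ w, z ≠ w →
        Nat.card (S.K z w) = e * Nat.card (S.E z (S.plane x y₁ y₂)) ∧
        Nat.card (S.N z) = e * (e * Nat.card (S.E z (S.plane x y₁ y₂))) := by
  obtain ⟨a, ha, ha2⟩ : ∃ a ∈ S.K x y₁, a • y₂ ≠ y₂ := by
    by_contra h; push Not at h; exact hy2 ((mem_span_iff hS).2 h)
  have ha1 : a ≠ 1 := fun e => ha2 (by rw [e, one_smul])
  have hA := hS x a ha.1 ha1
  have hxA : x ∈ fixedBy X a := S.fix x a ha.1
  set Y := S.plane x y₁ y₂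
  set e := Nat.card (S.E x (fixedBy X a))
  have he : ∀ H, S.IsAxis H → ∀ z ∈ H, Nat.card (S.E z H) = e := fun H hH z hz => S.card_E hH hz hA hxA
  have haY : a ∉ S.E x Y := fun h => ha2 ((S.mem_E.1 h).2 y₂ mem_plane.2.2)
  have hEK : S.E x (fixedBy X a) ≤ S.K x y₁ := fun b hb => ⟨(S.mem_E.1 hb).1, (S.mem_E.1 hb).2 y₁ ha.2⟩
  have hYK : S.E x Y ≤ S.K x y₁ := fun b hb => ⟨(S.mem_E.1 hb).1, (S.mem_E.1 hb).2 y₁ mem_plane.2.1⟩
  have h1 : Nat.card (S.K x y₁) = e * Nat.card (S.E x Y) := by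
    refine le_antisymm ?_ (card_mul_le hS ha.1 haY _ hYK hEK)
    rw [← Nat.card_prod]
    have hd : ∀ n : S.K x y₁, ∃ P : S.E x (fixedBy X a) × S.E x Y, (n : G) = P.1 * P.2 := fun n => by
      obtain ⟨ε, hε, b, hb, hn⟩ := (S.decomp hA hxA ha2).2 n n.2.1
      have hb' : b ∈ S.K x y₁ := by
        rw [show b = ε⁻¹ * n by rw [hn, inv_mul_cancel_left]]
        exact mul_mem (inv_mem (hEK hε)) n.2
      exact ⟨(⟨ε, hε⟩, ⟨b, K_inf_le hS hb' hb⟩), hn⟩
    choose g hg using hd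
    exact Nat.card_le_card_of_injective g fun n n' h => Subtype.ext (by rw [hg n, hg n', h])
  refine ⟨e, S.two_le_card_E hA hxA, he, fun z hz w hzw => ?_⟩
  have hu : Nat.card (S.E z Y) = Nat.card (S.E x Y) :=
    le_antisymm (card_E_plane_le hS hz mem_plane.1) (card_E_plane_le hS mem_plane.1 hz)
  have hK : Nat.card (S.K z w) = e * Nat.card (S.E x Y) := (S.card_K hzw hx1).trans h1
  have hd := (S.decomp hA hxA ha2).1
  rw [S.card_K (fun h => ha2 (h ▸ hxA) : x ≠ y₂) hx1, h1, S.card_N x z] at hd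
  exact ⟨by rw [hu]; exact hK, by rw [hu]; exact hd.symm⟩

/-- The kernels at one point of a plane. -/
theorem plane_pencil (hS : S.Full) (hx1 : x ≠ y₁) (hy2 : y₂ ∉ S.span x y₁) {z : X} (hz : z ∈ S.plane x y₁ y₂)
    (B : Set X) (hB : ∀ b ∈ B, b ∈ S.plane x y₁ y₂ ∧ z ≠ b) (hinj : Set.InjOn (S.K z) B) :
    ∃ e, (∀ H, S.IsAxis H → ∀ z ∈ H, Nat.card (S.E z H) = e) ∧ B.ncard ≤ e + 1 ∧
      (e + 1 ≤ B.ncard → ∀ n ∈ S.N z, n ∉ S.E z (S.plane x y₁ y₂) → ∃ b ∈ B, n • b = b) := by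
  classical
  obtain ⟨e, he2, he, hcard⟩ := plane_card hS hx1 hy2
  set Y := S.plane x y₁ y₂
  set T := (Set.toFinite B).toFinset.image (S.K z)
  have hTc : T.card = B.ncard := by
    rw [Finset.card_image_of_injOn (by simpa using hinj), ← Set.ncard_eq_toFinset_card]
  have hne : ∃ w, z ≠ w := by
    by_cases h : z = x
    · exact ⟨y₁, h ▸ hx1⟩
    · exact ⟨x, h⟩
  obtain ⟨w₀, hw₀⟩ := hne
  have hb : ∀ b ∈ B, S.E z Y ≤ S.K z b := fun b hb a ha => ⟨(S.mem_E.1 ha).1, (S.mem_E.1 ha).2 b (hB b hb).1⟩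
  have hmemT : ∀ K ∈ T, ∃ b ∈ B, S.K z b = K := fun K hK => by
    simpa [T] using hK
  obtain ⟨h1, h2⟩ := cover_of_pencil (U := S.E z Y) (N := S.N z) he2 T (hcard z hz w₀ hw₀).2 inf_le_left
    (fun K hK => by
      obtain ⟨b, hbB, rfl⟩ := hmemT K hK
      exact ⟨hb b hbB, inf_le_left, (hcard z hz b (hB b hbB).2).1⟩)
    (fun K hK K' hK' hne => by
      obtain ⟨b, hbB, rfl⟩ := hmemT K hK
      obtain ⟨b', hbB', rfl⟩ := hmemT K' hK'
      by_contra hle
      obtain ⟨a, haI, haY⟩ := SetLike.not_le_iff_exists.1 hle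
      have ha1 : a ≠ 1 := fun h => haY (h ▸ one_mem _)
      have hA := hS z a haI.1.1 ha1
      have hEle : S.E z (fixedBy X a) ≤ S.K z b ⊓ S.K z b' := fun c hc =>
        ⟨⟨(S.mem_E.1 hc).1, (S.mem_E.1 hc).2 b haI.1.2⟩, (S.mem_E.1 hc).1, (S.mem_E.1 hc).2 b' haI.2.2⟩
      have hge := card_mul_le hS haI.1.1 haY _ (le_inf (hb b hbB) (hb b' hbB')) hEle
      rw [he _ hA z (S.fix z a haI.1.1)] at hge
      have e1 := Subgroup.eq_of_le_of_card_ge (inf_le_left : S.K z b ⊓ S.K z b' ≤ S.K z b)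
        (by rw [(hcard z hz b (hB b hbB).2).1]; exact hge)
      have e2 := Subgroup.eq_of_le_of_card_ge (inf_le_right : S.K z b ⊓ S.K z b' ≤ S.K z b')
        (by rw [(hcard z hz b' (hB b' hbB').2).1]; exact hge)
      exact hne (e1.symm.trans e2))
  refine ⟨e, he, hTc ▸ h1, fun hle n hn hnY => ?_⟩
  obtain ⟨K, hK, hnK⟩ := h2 (hTc.symm ▸ hle) n hn hnY
  obtain ⟨b, hbB, rfl⟩ := hmemT K hK
  exact ⟨b, hbB, hnK.2⟩

theorem exists_off_span (hS : S.Full) {x y : X} (hxy : x ≠ y) : ∃ w, w ∉ S.span x y := by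
  obtain ⟨n, hn, hn1, hny⟩ := S.nsr x y hxy
  obtain ⟨w, hw⟩ := (hS x n hn hn1).exists_notMem
  exact ⟨w, fun h => hw (h _ (hS x n hn hn1) (S.fix x n hn) hny)⟩

/-- A line is the intersection of the axes through it and has one point more than an elation group has elements. -/
theorem line_eq_span (hS : S.Full) {x y : X} (hxy : x ≠ y) :
    S.line hxy = S.span x y ∧ ∀ H, S.IsAxis H → ∀ z ∈ H, (S.line hxy).ncard = Nat.card (S.E z H) + 1 := by
  classical
  obtain ⟨w, hw⟩ := exists_off_span hS hxy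
  have hinj : Set.InjOn (S.K w) (S.span x y) := by
    intro b hb b' hb' h
    by_contra hne
    have hwb : w ≠ b := fun e => hw (e ▸ hb)
    have hwb' : w ≠ b' := fun e => hw (e ▸ hb')
    have hs : S.span w b = S.span w b' := by
      ext v; rw [mem_span_iff hS, mem_span_iff hS, h]
    have h1 := span_eq (S := S) hwb hne (S.line_subset_span hwb (S.right_mem hwb))
      (hs ▸ S.line_subset_span hwb' (S.right_mem hwb'))
    have h2 := span_eq (S := S) hxy hne hb hb'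
    exact hw (h2 ▸ h1.symm ▸ S.line_subset_span hwb (S.left_mem hwb))
  obtain ⟨e, he, hle, -⟩ := plane_pencil hS hxy hw (z := w) mem_plane.2.2 (S.span x y)
    (fun b hb => ⟨fun H hH h1 h2 _ => hb H hH h1 h2, fun h => hw (h.symm ▸ hb)⟩) hinj
  have horb : e + 1 ≤ (S.line hxy).ncard := by
    obtain ⟨n, hn, hn1, hny⟩ := S.nsr x y hxy
    have hH := hS x n hn hn1
    have hd := (S.decomp hH (S.fix x n hn) (hH.exists_notMem.choose_spec)).1
    rw [he _ hH x (S.fix x n hn),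
      S.card_K (fun h => hH.exists_notMem.choose_spec (by rw [← h]; exact S.fix x n hn)) hxy] at hd
    set O := MulAction.orbit (S.N x) y
    have hst : Nat.card (MulAction.stabilizer (S.N x) y) = Nat.card (S.K x y) := by
      refine Nat.card_congr
        { toFun := fun a => ⟨((a : S.N x) : G), (a : S.N x).2, a.2⟩
          invFun := fun a => ⟨⟨(a : G), a.2.1⟩, a.2.2⟩
          left_inv := fun _ => rfl
          right_inv := fun _ => rfl }
    have hO : O.ncard = e := by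
      have h := (MulAction.stabilizer (S.N x) y).index_mul_card
      rw [MulAction.index_stabilizer, hst, ← hd] at h
      exact Nat.eq_of_mul_eq_mul_right Nat.card_pos h
    have hxO : x ∉ O := by
      rintro ⟨m, hm⟩
      exact hxy (MulAction.injective (m : G) ((S.fix x _ m.2).trans hm.symm))
    rw [← hO, ← Set.ncard_insert_of_notMem hxO (Set.toFinite _)]
    refine Set.ncard_le_ncard (Set.insert_subset (S.left_mem hxy) ?_) (Set.toFinite _)
    rintro _ ⟨m, rfl⟩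
    exact S.smul_mem_line hxy m.2
  refine ⟨Set.eq_of_subset_of_ncard_le (S.line_subset_span hxy) (hle.trans horb) (Set.toFinite _),
    fun H hH z hz => ?_⟩
  rw [he H hH z hz]
  exact le_antisymm ((Set.ncard_le_ncard (S.line_subset_span hxy) (Set.toFinite _)).trans hle) horb

/-- Every line meets every axis. -/
theorem meet (hS : S.Full) {H : Set X} (hH : S.IsAxis H) {u w : X} (huw : u ≠ w) :
    ∃ b ∈ S.line huw, b ∈ H := by
  by_contra hc
  push Not at hc
  obtain ⟨x, hx⟩ : ∃ x, x ∈ H := ⟨_, (hH.exists_ne u).choose_spec.1⟩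
  have hxl : x ∉ S.line huw := fun h => hc x h hx
  have hxu : x ≠ u := fun e => hxl (e ▸ S.left_mem huw)
  have hw : w ∉ S.span x u := fun h => by
    rw [← (line_eq_span hS hxu).1] at h
    exact hxl ((S.eq_of_mem hxu huw (S.right_mem hxu) h).1.symm ▸ S.left_mem hxu)
  have hsub : ∀ b ∈ S.line huw, b ∈ S.plane x u w ∧ x ≠ b := fun b hb =>
    ⟨fun F hF _ h1 h2 => hF.line_subset huw h1 h2 hb, fun e => hxl (e.symm ▸ hb)⟩
  have hinj : Set.InjOn (S.K x) (S.line huw) := by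
    intro b hb b' hb' h
    by_contra hne
    have hxb := (hsub b hb).2
    have hxb' := (hsub b' hb').2
    have hs : S.line hxb = S.line hxb' := by
      rw [(line_eq_span hS hxb).1, (line_eq_span hS hxb').1]
      ext v; rw [mem_span_iff hS, mem_span_iff hS, h]
    have h1 := (S.eq_of_mem hxb hne (S.right_mem hxb) (hs ▸ S.right_mem hxb')).1
    have h2 := (S.eq_of_mem huw hne hb hb').1
    exact hxl (h2 ▸ h1.symm ▸ S.left_mem hxb)
  obtain ⟨e, he, -, hcov⟩ := plane_pencil hS hxu hw mem_plane.1 (S.line huw) hsub hinj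
  obtain ⟨a, ha, ha1, haH⟩ := hH.centre hx
  obtain ⟨b, hb, hab⟩ := hcov (by rw [(line_eq_span hS huw).2 H hH x hx, he H hH x hx]) a ha (fun h => by
    refine hc u (S.left_mem huw) ?_
    rw [← haH]
    exact (S.mem_E.1 h).2 u mem_plane.2.1)
  exact hc b hb (haH ▸ hab)

end Setting

end CfsgLib.ONan
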