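/-
The design of points and axes, and the reduction to Ito's theorem.
-/
import Cfsg.Agent.ONan.Planes
import Cfsg.Agent.ItoDesign.Count
import Cfsg.Agent.S3706

set_option autoImplicit false
set_option linter.unusedSectionVars false

namespace CfsgLib.ONan

open MulAction Pointwise

variable {G X : Type*} [Group G] [MulAction G X] [Finite G] [Finite X] [FaithfulSMul G X] {p : ℕ} [Fact p.Prime]
  {S : Setting G X p}

namespace Setting

theorem span_facts (hS : S.Full) {w b : X} (hwb : w ≠ b) :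
    w ∈ S.span w b ∧ b ∈ S.span w b ∧
      ∀ H, S.IsAxis H → ∀ z ∈ H, (S.span w b).ncard = Nat.card (S.E z H) + 1 := by
  rw [← (line_eq_span hS hwb).1]
  exact ⟨S.left_mem hwb, S.right_mem hwb, (line_eq_span hS hwb).2⟩

/-- A set closed for lines is counted by its trace on an axis. -/
theorem count (hS : S.Full) {H : Set X} (hH : S.IsAxis H) {T : Set X}
    (hT : ∀ a ∈ T, ∀ b ∈ T, a ≠ b → S.span a b ⊆ T) {w : X} (hw : w ∈ T) (hwH : w ∉ H) {e : ℕ}
    (he : ∀ F, S.IsAxis F → ∀ z ∈ F, Nat.card (S.E z F) = e) : T.ncard = e * (T ∩ H).ncard + 1 := by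
  classical
  haveI := Fintype.ofFinite X
  have hne : ∀ b ∈ (T ∩ H).toFinset, w ≠ b := fun b hb h => hwH (h ▸ (Set.mem_toFinset.1 hb).2)
  have hd : ((T ∩ H).toFinset : Set X).PairwiseDisjoint fun b => (S.span w b).toFinset.erase w := by
    intro b hb b' hb' hbb
    refine Finset.disjoint_left.2 fun t ht ht' => ?_
    simp only [Finset.mem_erase, Set.mem_toFinset] at ht ht'
    have h1 := span_eq (S := S) (hne b hb) ht.1.symm (span_facts hS (hne b hb)).1 ht.2
    have h2 := span_eq (S := S) (hne b' hb') ht'.1.symm (span_facts hS (hne b' hb')).1 ht'.2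
    have hb1 : b' ∈ S.span w b := (h1.symm.trans h2).symm ▸ (span_facts hS (hne b' hb')).2.1
    have h3 := span_eq (S := S) (hne b hb) hbb (span_facts hS (hne b hb)).2.1 hb1
    have hw' : w ∈ S.span b b' := h3.symm ▸ (span_facts hS (hne b hb)).1
    exact hwH (hw' H hH (Set.mem_toFinset.1 hb).2 (Set.mem_toFinset.1 hb').2)
  have hU : (T ∩ H).toFinset.biUnion (fun b => (S.span w b).toFinset.erase w) = T.toFinset.erase w := by
    ext t
    simp only [Finset.mem_biUnion, Finset.mem_erase, Set.mem_toFinset]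
    constructor
    · rintro ⟨b, hb, ht, htb⟩
      exact ⟨ht, hT w hw b hb.1 (fun h => hwH (h ▸ hb.2)) htb⟩
    · rintro ⟨ht, htT⟩
      obtain ⟨b, hbl, hbH⟩ := meet hS hH ht.symm
      rw [(line_eq_span hS ht.symm).1] at hbl
      have hwb : w ≠ b := fun h => hwH (h ▸ hbH)
      refine ⟨b, ⟨hT w hw t htT ht.symm hbl, hbH⟩, ht, ?_⟩
      rw [span_eq (S := S) ht.symm hwb (span_facts hS ht.symm).1 hbl]
      exact (span_facts hS ht.symm).2.1
  have hc : ∀ b ∈ (T ∩ H).toFinset, ((S.span w b).toFinset.erase w).card = e := by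
    intro b hb
    have hbH := (Set.mem_toFinset.1 hb).2
    rw [Finset.card_erase_of_mem (Set.mem_toFinset.2 (span_facts hS (hne b hb)).1), ← Set.ncard_eq_toFinset_card',
      (span_facts hS (hne b hb)).2.2 H hH b hbH, he H hH b hbH, Nat.add_sub_cancel]
  have := Finset.card_biUnion hd
  rw [hU, Finset.sum_congr rfl hc, Finset.sum_const, smul_eq_mul,
    Finset.card_erase_of_mem (Set.mem_toFinset.2 hw), ← Set.ncard_eq_toFinset_card',
    ← Set.ncard_eq_toFinset_card'] at this
  have := (Set.ncard_pos (s := T)).2 ⟨w, hw⟩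
  rw [Nat.mul_comm]
  omega

theorem axis_smul {H : Set X} (hH : S.IsAxis H) (g : G) : S.IsAxis (g • H) := by
  rw [← Set.image_smul]
  exact hH.smul g

/-- Ito's hypotheses hold for the stabiliser of an axis. -/
theorem conclusion (hS : S.Full) {x₀ y₀ : X} (hxy : x₀ ≠ y₀) :
    ∃ (m : ℕ) (F : Type) (_ : Field F) (_ : Fintype F), 2 ≤ m ∧
      Nat.card X = (Fintype.card F ^ (m + 1) - 1) / (Fintype.card F - 1) ∧
      ∃ N : Subgroup G, N.Normal ∧ Nonempty (N ≃* Matrix.ProjectiveSpecialLinearGroup (Fin (m + 1)) F) ∧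
        Subgroup.centralizer (N : Set G) = ⊥ := by
  classical
  haveI := Fintype.ofFinite X
  obtain ⟨n, hn, hn1, hny⟩ := S.nsr x₀ y₀ hxy
  set H₀ := fixedBy X n
  have hH₀ : S.IsAxis H₀ := hS x₀ n hn hn1
  have hx₀ : x₀ ∈ H₀ := S.fix x₀ n hn
  set e := Nat.card (S.E x₀ H₀)
  have he : ∀ F, S.IsAxis F → ∀ z ∈ F, Nat.card (S.E z F) = e := fun F hF z hz => S.card_E hF hz hH₀ hx₀
  have he2 : 2 ≤ e := S.two_le_card_E hH₀ hx₀
  have huniv : ∀ F, S.IsAxis F → Nat.card X = e * F.ncard + 1 := fun F hF => by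
    obtain ⟨w, hw⟩ := hF.exists_notMem
    have := count hS hF (T := Set.univ) (fun _ _ _ _ _ => Set.subset_univ _) (Set.mem_univ w) hw he
    rwa [Set.ncard_univ, Set.univ_inter] at this
  have hsize : ∀ F, S.IsAxis F → F.ncard = H₀.ncard := fun F hF => by
    have := (huniv F hF).symm.trans (huniv H₀ hH₀)
    exact Nat.eq_of_mul_eq_mul_left (by omega : 0 < e) (Nat.add_right_cancel this)
  have hinter : ∀ F F', S.IsAxis F → S.IsAxis F' → F ≠ F' → H₀.ncard = e * (F ∩ F').ncard + 1 := by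
    intro F F' hF hF' hne
    obtain ⟨w, hw, hw'⟩ := Set.not_subset.1 fun h => hne (hF.eq_of_subset hF' h)
    rw [← hsize F hF]
    exact count hS hF' (fun a ha b hb hab => (line_eq_span hS hab).1 ▸ hF.line_subset hab ha hb) hw hw' he
  let β := ↥(orbit G H₀)
  haveI : Fintype β := Fintype.ofFinite _
  have hax : ∀ C : β, S.IsAxis (C : Set X) := by
    rintro ⟨C, g, rfl⟩
    exact axis_smul hH₀ g
  let I : X → β → Prop := fun x C => x ∈ (C : Set X)
  have hI : ∀ x (C : β), I x C ↔ x ∈ (C : Set X) := fun _ _ => Iff.rfl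
  have hIs : ∀ (g : G) x (C : β), I (g • x) (g • C) ↔ I x C := fun g x C => by
    show g • x ∈ g • (C : Set X) ↔ _
    exact Set.smul_mem_smul_set_iff
  have htrans : ∀ x y : X, ∃ g : G, g • x = y := fun x y => by
    rcases eq_or_ne x y with rfl | h
    · exact ⟨1, one_smul G x⟩
    · obtain ⟨g, hg, -⟩ := S.two x y y x h h.symm
      exact ⟨g, hg⟩
  set r := (Finset.univ.filter fun C : β => I x₀ C).card
  have hr : ∀ x, (Finset.univ.filter fun C : β => I x C).card = r := fun x => by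
    obtain ⟨g, rfl⟩ := htrans x₀ x
    exact (Finset.card_equiv (MulAction.toPerm g) fun C => by simp [hIs]).symm
  set l := (Finset.univ.filter fun C : β => I x₀ C ∧ I y₀ C).card
  have hl : ∀ x y, x ≠ y → (Finset.univ.filter fun C : β => I x C ∧ I y C).card = l := fun x y h => by
    obtain ⟨g, rfl, rfl⟩ := S.two x₀ y₀ x y hxy h
    exact (Finset.card_equiv (MulAction.toPerm g) fun C => by simp [hIs]).symm
  have hblk : ∀ C : β, (Finset.univ.filter fun x => I x C).card = H₀.ncard := fun C => by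
    rw [← hsize _ (hax C), Set.ncard_eq_toFinset_card']
    congr 1
    ext x
    simp [I]
  obtain ⟨y₁, hy₁, hy₁x⟩ := hH₀.exists_ne x₀
  have hk2 : 2 ≤ H₀.ncard :=
    (Set.one_lt_ncard (Set.toFinite _)).2 ⟨x₀, hx₀, y₁, hy₁, hy₁x.symm⟩
  have hklt : H₀.ncard < Fintype.card X := by
    have := huniv H₀ hH₀
    rw [← Nat.card_eq_fintype_card]
    nlinarith
  obtain ⟨w, hw⟩ := hH₀.exists_notMem
  let C₀ : β := ⟨H₀, mem_orbit_self H₀⟩
  obtain ⟨g₁, hg₁⟩ := htrans x₀ w
  let C₁ : β := g₁ • C₀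
  have hwC₁ : I w C₁ := hg₁ ▸ (hIs g₁ x₀ C₀).2 hx₀
  have hC : C₀ ≠ C₁ := fun h => hw (show I w C₀ from h.symm ▸ hwC₁)
  have hmeet : ∀ C D : β, C ≠ D → ∃ b, I b C ∧ I b D := fun C D hCD => by
    obtain ⟨u, hu⟩ : ∃ u, u ∈ (C : Set X) := by
      obtain ⟨u, hu, -⟩ := (hax C).exists_ne x₀; exact ⟨u, hu⟩
    obtain ⟨v, hv, hvu⟩ := (hax C).exists_ne u
    obtain ⟨b, hb, hbD⟩ := meet hS (hax D) hvu.symm
    exact ⟨b, (hax C).line_subset hvu.symm hu hv hb, hbD⟩
  have hr2 : 2 ≤ r := by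
    obtain ⟨b, hb0, hb1⟩ := hmeet C₀ C₁ hC
    rw [← hr b]
    exact Finset.one_lt_card.2 ⟨C₀, by simpa using hb0, C₁, by simpa using hb1, hC⟩
  have hrlt : r < Fintype.card β := by
    rw [← hr w, ← Finset.card_univ]
    refine Finset.card_lt_card (Finset.filter_ssubset.2 ⟨C₀, Finset.mem_univ _, hw⟩)
  have hcard : Fintype.card β = Fintype.card X := by
    rcases le_total (Fintype.card β) (Fintype.card X) with h | h
    · exact (ItoDesign.Counts.symmetric (I := I) ⟨hblk, hr, hl, hk2, hklt, h, ⟨C₀⟩⟩).2.1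
    · set l' := (Finset.univ.filter fun x => I x C₀ ∧ I x C₁).card
      have hl' : ∀ C D : β, C ≠ D → (Finset.univ.filter fun x => I x C ∧ I x D).card = l' := by
        have key : ∀ C D : β, C ≠ D →
            (Finset.univ.filter fun x => I x C ∧ I x D).card = ((C : Set X) ∩ D).ncard := fun C D _ => by
          rw [Set.ncard_eq_toFinset_card']
          congr 1
          ext x
          simp [I]
        intro C D hCD
        rw [key C D hCD]
        refine Eq.trans ?_ (key C₀ C₁ hC).symm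
        have h1 := hinter _ _ (hax C) (hax D) fun h => hCD (Subtype.ext h)
        have h2 := hinter _ _ (hax C₀) (hax C₁) fun h => hC (Subtype.ext h)
        exact Nat.eq_of_mul_eq_mul_left (by omega : 0 < e) (Nat.add_right_cancel (h1.symm.trans h2))
      exact (ItoDesign.Counts.symmetric (Ω := β) (β := X) (I := fun C x => I x C)
        ⟨hr, hblk, hl', hr2, hrlt, h, ⟨x₀⟩⟩).2.1.symm
  refine Cfsg.Agent.S3706.result ?_ (stabilizer G H₀) ?_ ?_ ?_ ?_
  · exact is_two_pretransitive_iff.2 fun {a b c d} h h' => S.two a b c d h h'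
  · rw [index_stabilizer, ← Nat.card_coe_set_eq, Nat.card_eq_fintype_card (α := ↥(orbit G H₀)), hcard,
      Nat.card_eq_fintype_card]
  · intro ht
    obtain ⟨⟨g, hg⟩, hgw⟩ := ht.exists_smul_eq x₀ w
    have hm : g • x₀ ∈ g • H₀ := Set.smul_mem_smul_set hx₀
    rw [show g • H₀ = H₀ from hg, show g • x₀ = w from hgw] at hm
    exact hw hm
  · intro a
    by_contra hc
    push Not at hc
    have hle : stabilizer G H₀ ≤ stabilizer G a := fun g hg => hc ⟨g, hg⟩
    have hst : stabilizer G a = stabilizer G H₀ := by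
      refine le_antisymm ?_ hle
      refine le_of_eq (Subgroup.eq_of_le_of_card_ge hle ?_).symm
      have hi : (stabilizer G a).index = (stabilizer G H₀).index := by
        haveI : IsPretransitive G X := ⟨htrans⟩
        rw [index_stabilizer, index_stabilizer, ← Nat.card_coe_set_eq (orbit G H₀),
          Nat.card_eq_fintype_card (α := ↥(orbit G H₀)), hcard, orbit_eq_univ, Set.ncard_univ,
          Nat.card_eq_fintype_card]
      have h1 := (stabilizer G a).index_mul_card
      rw [← (stabilizer G H₀).index_mul_card, hi] at h1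
      exact (Nat.eq_of_mul_eq_mul_left (Nat.pos_of_ne_zero Subgroup.index_ne_zero_of_finite) h1).le
    obtain ⟨b, hb, hba, w', hw', hw'a⟩ :
        ∃ b, b ∈ H₀ ∧ b ≠ a ∧ ∃ w', w' ∉ H₀ ∧ w' ≠ a := by
      obtain ⟨b, hb, hba⟩ := hH₀.exists_ne a
      refine ⟨b, hb, hba, ?_⟩
      by_contra hc'
      push Not at hc'
      have hsub : (Set.univ : Set X) ⊆ insert a H₀ := fun t _ => by
        by_cases ht : t ∈ H₀
        · exact Or.inr ht
        · exact Or.inl (hc' t ht)
      have := (Set.ncard_le_ncard hsub (Set.toFinite _)).trans (Set.ncard_insert_le a H₀)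
      rw [Set.ncard_univ, huniv H₀ hH₀] at this
      nlinarith
    obtain ⟨g, hga, hgb⟩ := S.two a b a w' hba.symm hw'a.symm
    have hg : g • H₀ = H₀ := (hst ▸ hga : g ∈ stabilizer G H₀)
    exact hw' (hgb ▸ hg ▸ Set.smul_mem_smul_set hb)
  · obtain ⟨m, hm, hm1, hmH⟩ := hH₀.centre hx₀
    have hfix : ∀ v ∈ H₀, m • v = v := fun v hv => (hmH.symm ▸ hv : v ∈ fixedBy X m)
    have hmem : m ∈ stabilizer G H₀ := mem_stabilizer_iff.2 (by
      ext v
      rw [Set.mem_smul_set]
      exact ⟨fun ⟨u, hu, huv⟩ => huv ▸ (hfix u hu).symm ▸ hu, fun hv => ⟨v, hv, hfix v hv⟩⟩)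
    refine ⟨x₀, ⟨m, hmem⟩, fun h => hm1 (congrArg Subtype.val h), ?_⟩
    rintro _ ⟨⟨g, hg⟩, rfl⟩
    refine hfix _ ?_
    show g • x₀ ∈ H₀
    exact (show g • H₀ = H₀ from hg) ▸ Set.smul_mem_smul_set hx₀

end Setting

end CfsgLib.ONan
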