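/-
O'Nan's theorem for an abelian normal subgroup of the point stabiliser that is not semiregular.
-/
import Cfsg.Agent.ONan.Count
import Cfsg.Agent.Comp.Basic
import Cfsg.Agent.S0249

set_option autoImplicit false
set_option linter.unusedSectionVars false

namespace CfsgLib.ONan

open MulAction

variable {G X : Type*} [Group G] [MulAction G X] [Finite G] [Finite X] [FaithfulSMul G X]

theorem exists_psl (h2 : IsMultiplyPretransitive G X 2) (x : X) (N : Subgroup G) (hNle : N ≤ stabilizer G x)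
    (hNn : ∀ g ∈ stabilizer G x, ∀ n ∈ N, g * n * g⁻¹ ∈ N) (hab : ∀ a ∈ N, ∀ b ∈ N, a * b = b * a)
    (hnsr : ∃ n ∈ N, n ≠ 1 ∧ ∃ y : X, y ≠ x ∧ n • y = y) :
    ∃ (L : Subgroup G) (F : Type) (_ : Field F) (_ : Fintype F) (n : ℕ), 3 ≤ n ∧ L.Normal ∧
      Subgroup.centralizer (L : Set G) = ⊥ ∧ Nonempty (L ≃* Matrix.ProjectiveSpecialLinearGroup (Fin n) F) ∧
      Nat.card X * (Fintype.card F - 1) = Fintype.card F ^ n - 1 := by
  obtain ⟨n₀, hn₀, hn₀1, y₀, hy₀, hfix⟩ := hnsr
  obtain ⟨p, hp, hpd⟩ := Nat.exists_prime_and_dvd (fun h => hn₀1 (orderOf_eq_one_iff.1 h))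
  haveI := Fact.mk hp
  have h2' : ∀ {a b c d : X}, a ≠ b → c ≠ d → ∃ g : G, g • a = c ∧ g • b = d := is_two_pretransitive_iff.1 h2
  have htrans : ∀ z : X, ∃ g : G, g • x = z := fun z => by
    rcases eq_or_ne x z with rfl | h
    · exact ⟨1, one_smul G x⟩
    · obtain ⟨g, hg, -⟩ := h2' h h.symm
      exact ⟨g, hg⟩
  let M : Subgroup G :=
    { carrier := {n | n ∈ N ∧ n ^ p = 1}
      one_mem' := ⟨one_mem _, one_pow _⟩
      mul_mem' := fun {a b} ha hb =>
        ⟨mul_mem ha.1 hb.1, by rw [Commute.mul_pow (hab a ha.1 b hb.1), ha.2, hb.2, one_mul]⟩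
      inv_mem' := fun {a} ha => ⟨inv_mem ha.1, by rw [inv_pow, ha.2, inv_one]⟩ }
  have hMn : ∀ g ∈ stabilizer G x, ∀ n ∈ M, g * n * g⁻¹ ∈ M := fun g hg n hn =>
    ⟨hNn g hg n hn.1, by rw [conj_pow, hn.2, mul_one, mul_inv_cancel]⟩
  let S : Setting G X p :=
    { N := fun z =>
        { carrier := {n | ∀ g : G, g • x = z → g⁻¹ * n * g ∈ M}
          one_mem' := fun g _ => by simp [one_mem]
          mul_mem' := fun {a b} ha hb g hg => by
            have := mul_mem (ha g hg) (hb g hg)
            rwa [show g⁻¹ * a * g * (g⁻¹ * b * g) = g⁻¹ * (a * b) * g by group] at this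
          inv_mem' := fun {a} ha g hg => by
            have := inv_mem (ha g hg)
            rwa [show (g⁻¹ * a * g)⁻¹ = g⁻¹ * a⁻¹ * g by group] at this }
      conj := fun g z n hn g' hg' => by
        have := hn (g⁻¹ * g') (by rw [mul_smul, hg', inv_smul_smul])
        rwa [show (g⁻¹ * g')⁻¹ * n * (g⁻¹ * g') = g'⁻¹ * (g * n * g⁻¹) * g' by group] at this
      fix := fun z n hn => by
        obtain ⟨g, hg⟩ := htrans z
        have h := mem_stabilizer_iff.1 (hNle (hn g hg).1)
        rwa [mul_smul, mul_smul, hg, inv_smul_eq_iff, hg] at h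
      comm := fun z a ha b hb => by
        obtain ⟨g, hg⟩ := htrans z
        have := hab _ (ha g hg).1 _ (hb g hg).1
        calc a * b = g * (g⁻¹ * a * g * (g⁻¹ * b * g)) * g⁻¹ := by group
          _ = b * a := by rw [this]; group
      exp := fun z n hn => by
        obtain ⟨g, hg⟩ := htrans z
        have h : (g⁻¹ * n * g) ^ p = 1 := (hn g hg).2
        calc n ^ p = (g * (g⁻¹ * n * g) * g⁻¹) ^ p := by congr 1; group
          _ = 1 := by rw [conj_pow, h, mul_one, mul_inv_cancel]
      two := fun a b a' b' h h' => h2' h h'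
      nsr := fun a b hab' => by
        obtain ⟨g, hgx, hgy⟩ := h2' hy₀.symm hab'
        have hm : n₀ ^ (orderOf n₀ / p) ∈ M :=
          ⟨pow_mem hn₀ _, by rw [← pow_mul, Nat.div_mul_cancel hpd, pow_orderOf_eq_one]⟩
        have hmy : n₀ ^ (orderOf n₀ / p) • y₀ = y₀ :=
          mem_stabilizer_iff.1 (pow_mem (mem_stabilizer_iff.2 hfix) _)
        refine ⟨g * n₀ ^ (orderOf n₀ / p) * g⁻¹, fun g' hg' => ?_, fun h => ?_, ?_⟩
        · have := hMn (g'⁻¹ * g) (mem_stabilizer_iff.2 (by rw [mul_smul, hgx, ← hg', inv_smul_smul])) _ hm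
          rwa [show g'⁻¹ * g * n₀ ^ (orderOf n₀ / p) * (g'⁻¹ * g)⁻¹ =
            g'⁻¹ * (g * n₀ ^ (orderOf n₀ / p) * g⁻¹) * g' by group] at this
        · rw [conj_eq_one_iff] at h
          have hlt : orderOf n₀ / p < orderOf n₀ := Nat.div_lt_self (orderOf_pos n₀) hp.one_lt
          exact pow_ne_one_of_lt_orderOf
            (Nat.ne_of_gt (Nat.div_pos (Nat.le_of_dvd (orderOf_pos n₀) hpd) hp.pos)) hlt h
        · rw [← hgy, mul_smul, mul_smul, inv_smul_smul, hmy] }
  obtain ⟨m, F, hF, hFin, hm, hcard, L, hL, hiso, hC⟩ := S.core.conclusion S.core_full hy₀.symm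
  refine ⟨L, F, hF, hFin, m + 1, by omega, hL, hC, hiso, ?_⟩
  rw [hcard, Nat.div_mul_cancel]
  simpa using Nat.sub_dvd_pow_sub_pow (Fintype.card F) 1 (m + 1)

/-- A normal simple subgroup with trivial centraliser is the generalised Fitting subgroup. -/
theorem gfs_eq {L : Subgroup G} (hn : L.Normal) (hs : IsSimpleGroup L)
    (hC : Subgroup.centralizer (L : Set G) = ⊥) : Cfsg.generalizedFittingSubgroup G = L := by
  haveI := hn
  have hcent : ∀ K : Subgroup G, ⁅K, L⁆ = ⊥ → K = ⊥ := fun K h => by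
    rw [eq_bot_iff, ← hC]
    exact Subgroup.commutator_eq_bot_iff_le_centralizer.1 h
  have hdich : ∀ K : Subgroup G, K.Normal → K = ⊥ ∨ L ≤ K := fun K hK => by
    haveI := hK
    rcases (inferInstance : (K.subgroupOf L).Normal).eq_bot_or_eq_top with h | h
    · refine Or.inl (hcent K (le_bot_iff.1 ?_))
      rw [Subgroup.subgroupOf_eq_bot, disjoint_iff] at h
      exact h ▸ Subgroup.commutator_le_inf K L
    · exact Or.inr (Subgroup.subgroupOf_eq_top.1 h)
  have hnc : ¬ Group.IsSolvable L := fun hsol => by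
    haveI := hsol
    haveI : Nontrivial L := hs.toNontrivial
    refine (Subgroup.nontrivial_iff_ne_bot L).1 inferInstance (hcent L ?_)
    rw [Subgroup.commutator_eq_bot_iff_le_centralizer]
    intro a ha
    rw [Subgroup.mem_centralizer_iff]
    exact fun b hb => congrArg Subtype.val
      (IsSimpleGroup.comm_iff_isSolvable.2 hsol ⟨b, hb⟩ ⟨a, ha⟩)
  refine le_antisymm (sup_le (Comp.layer_le fun K hK => ?_) ?_) ?_
  · rcases Comp.component_le_or_commutator_eq_bot hK hn.isSubnormal with h | h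
    · exact h
    · exact absurd (hcent K h) (Comp.component_ne_bot hK)
  · rcases hdich _ Comp.fitting_normal with h | h
    · exact h.le.trans bot_le
    · haveI := Comp.fitting_isSolvable (G := G)
      exact absurd (Group.isSolvable_of_isSolvable_injective (f := Subgroup.inclusion h)
        (Subgroup.inclusion_injective h)) hnc
  · rcases hdich _ Comp.Fstar_normal with h | h
    · have := Comp.centralizer_Fstar_le (G := G)
      rw [h] at this
      intro a _
      rw [h]
      exact this (Subgroup.mem_centralizer_iff.2 fun b hb => by simp [Subgroup.mem_bot.1 hb])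
    · exact h

end CfsgLib.ONan
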